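import Groth.Prelude.Def_CechOX
import Groth.Agent.QCohLib.Basic
import Groth.Agent.TwoTop.Vanish
import Mathlib.CategoryTheory.Limits.Shapes.ConcreteCategory
import Mathlib.Algebra.Homology.ShortComplex.PreservesHomology

/-!
# The Čech resolution of a sheaf of modules
-/

set_option autoImplicit false
set_option linter.style.haveILetI false
set_option backward.isDefEq.respectTransparency false

universe u

open CategoryTheory CategoryTheory.Limits AlgebraicGeometry Opposite TopologicalSpace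

namespace Groth.Agent.CechShRes

variable {X : Scheme.{u}} {ι : Type u} (𝒰 : ι → X.Opens) (F : X.Modules)

/-- The open of a tuple. -/
noncomputable abbrev tOpen {n : ℕ} (σ : Fin n → ι) : X.Opens := ∏ᶜ (𝒰 ∘ σ)

lemma tOpen_eq {n : ℕ} (σ : Fin n → ι) : tOpen 𝒰 σ = ⨅ k, 𝒰 (σ k) :=
  le_antisymm (le_iInf fun k => leOfHom (Pi.π (𝒰 ∘ σ) k)) (leOfHom (Pi.lift fun k => homOfLE (iInf_le _ k)))

/-- The open over which the value on a tuple is taken. -/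
noncomputable abbrev iOpen {n : ℕ} (σ : Fin n → ι) (V : X.Opens) : X.Opens :=
  (CechOX.interFun (tOpen 𝒰 σ)).obj V

lemma iOpen_eq {n : ℕ} (σ : Fin n → ι) (V : X.Opens) : iOpen 𝒰 σ V = (⨅ k, 𝒰 (σ k)) ⊓ V := by
  change (tOpen 𝒰 σ).ι ''ᵁ ((tOpen 𝒰 σ).ι ⁻¹ᵁ V) = _
  rw [Scheme.Hom.image_preimage_eq_opensRange_inf, Scheme.Opens.opensRange_ι, tOpen_eq]

/-- The degree `n` term. -/
noncomputable abbrev fac (n : ℕ) (σ : Fin (n + 1) → ι) : X.Modules := (CechOX.pushRestr (tOpen 𝒰 σ)).obj F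

/-- The projection to a tuple. -/
noncomputable abbrev prj (n : ℕ) (σ : Fin (n + 1) → ι) : ((CechOX.cechSh 𝒰).obj F).X n ⟶ fac 𝒰 F n σ :=
  Pi.π (fac 𝒰 F n) σ

/-- The value on a tuple. -/
noncomputable def val (n : ℕ) {V : X.Opens} (σ : Fin (n + 1) → ι) (c : Γ(((CechOX.cechSh 𝒰).obj F).X n, V)) :
    Γ(F, iOpen 𝒰 σ V) :=
  (prj 𝒰 F n σ).app V c

/-- Sections on an open. -/
noncomputable abbrev secF (V : X.Opens) : X.Modules ⥤ AddCommGrpCat.{u} :=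
  Scheme.Modules.toPresheaf X ⋙ (evaluation _ _).obj (op V)

instance secF_preservesLimits (V : X.Opens) : PreservesLimitsOfSize.{u, u} (secF V) :=
  haveI : PreservesLimitsOfSize.{u, u} (Scheme.Modules.toPresheaf X) := inferInstance
  haveI : PreservesLimitsOfSize.{u, u} ((evaluation (X.Opens)ᵒᵖ AddCommGrpCat.{u}).obj (op V)) :=
    { preservesLimitsOfShape := evaluation_preservesLimitsOfShape (op V) }
  comp_preservesLimits (Scheme.Modules.toPresheaf X) ((evaluation (X.Opens)ᵒᵖ AddCommGrpCat.{u}).obj (op V))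

lemma val_ext {n : ℕ} {V : X.Opens} {a b : Γ(((CechOX.cechSh 𝒰).obj F).X n, V)}
    (h : ∀ σ, val 𝒰 F n σ a = val 𝒰 F n σ b) : a = b :=
  Concrete.isLimit_ext _ (isLimitOfPreserves (secF V) (limit.isLimit (Discrete.functor (fac 𝒰 F n)))) a b
    fun ⟨σ⟩ => h σ

lemma exists_val {n : ℕ} {V : X.Opens} (v : ∀ σ : Fin (n + 1) → ι, Γ(F, iOpen 𝒰 σ V)) :
    ∃ b : Γ(((CechOX.cechSh 𝒰).obj F).X n, V), ∀ σ, val 𝒰 F n σ b = v σ := by
  let e := PreservesProduct.iso (secF V) (fac 𝒰 F n)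
  let w := (Concrete.productEquiv (fun σ => (secF V).obj (fac 𝒰 F n σ))).symm v
  refine ⟨e.inv w, fun σ => ?_⟩
  have h : e.inv ≫ (secF V).map (Pi.π (fac 𝒰 F n) σ) = Pi.π _ σ := by
    rw [Iso.inv_comp_eq]
    exact (piComparison_comp_π (secF V) _ σ).symm
  exact (ConcreteCategory.congr_hom h w).trans (Concrete.productEquiv_symm_apply_π _ _ σ)

lemma iOpen_face {n : ℕ} (σ : Fin (n + 2) → ι) (j : Fin (n + 2)) (V : X.Opens) :
    iOpen 𝒰 σ V ≤ iOpen 𝒰 (σ ∘ j.succAbove) V := by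
  rw [iOpen_eq, iOpen_eq]
  exact inf_le_inf_right _ (le_iInf fun k => iInf_le (fun k => 𝒰 (σ k)) (j.succAbove k))

lemma d_val (n : ℕ) {V : X.Opens} (σ : Fin (n + 2) → ι) (c : Γ(((CechOX.cechSh 𝒰).obj F).X n, V)) :
    val 𝒰 F (n + 1) σ ((((CechOX.cechSh 𝒰).obj F).d n (n + 1)).app V c) =
      ∑ j : Fin (n + 2), (-1 : ℤ) ^ (j : ℕ) •
        F.presheaf.map (homOfLE (iOpen_face 𝒰 σ j V)).op (val 𝒰 F n (σ ∘ j.succAbove) c) := by
  have hle : ∀ j : Fin (n + 2), tOpen 𝒰 σ ≤ tOpen 𝒰 (σ ∘ j.succAbove) :=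
    fun j => leOfHom (Pi.lift fun k => Pi.π (𝒰 ∘ σ) (j.succAbove k))
  have h : ((CechOX.cechSh 𝒰).obj F).d n (n + 1) ≫ prj 𝒰 F (n + 1) σ =
      ∑ j : Fin (n + 2), (-1 : ℤ) ^ (j : ℕ) •
        (prj 𝒰 F n (σ ∘ j.succAbove) ≫ CechOX.pushRestrMapApp (hle j) F) := by
    dsimp [CechOX.cechSh, cechComplexFunctor, FormalCoproduct.cochainComplexFunctor,
      AlgebraicTopology.alternatingCofaceMapComplex, AlgebraicTopology.AlternatingCofaceMapComplex.obj]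
    rw [CochainComplex.of_d, AlgebraicTopology.AlternatingCofaceMapComplex.objD]
    erw [Preadditive.sum_comp]
    refine Finset.sum_congr rfl fun j _ => ?_
    erw [Preadditive.zsmul_comp]
    congr 1
    erw [Pi.lift_π]
    rfl
  let ev : (((CechOX.cechSh 𝒰).obj F).X n ⟶ fac 𝒰 F (n + 1) σ) →+ Γ(F, iOpen 𝒰 σ V) :=
    AddMonoidHom.mk' (fun t => t.app V c) (fun s t => rfl)
  refine (congrArg ev h).trans ((map_sum ev _ _).trans (Finset.sum_congr rfl fun j _ => ?_))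
  exact (map_zsmul ev _ _).trans rfl

lemma iOpen_cons {V : X.Opens} {i : ι} (hV : V ≤ 𝒰 i) {n : ℕ} (σ : Fin (n + 1) → ι) :
    iOpen 𝒰 σ V ≤ iOpen 𝒰 (Fin.cons i σ : Fin (n + 2) → ι) V := by
  rw [iOpen_eq, iOpen_eq]
  refine le_inf (le_iInf fun k => ?_) inf_le_right
  induction k using Fin.cases with
  | zero => exact inf_le_right.trans hV
  | succ k => exact inf_le_left.trans (iInf_le (fun k => 𝒰 (σ k)) k)

/-- The value pushed to a smaller open. -/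
noncomputable abbrev rv {n : ℕ} {V W : X.Opens} (σ : Fin (n + 1) → ι) (c : Γ(((CechOX.cechSh 𝒰).obj F).X n, V))
    (h : W ≤ iOpen 𝒰 σ V) : Γ(F, W) :=
  F.presheaf.map (homOfLE h).op (val 𝒰 F n σ c)

lemma rv_congr {n : ℕ} {V W : X.Opens} {σ τ : Fin (n + 1) → ι} (e : σ = τ)
    (c : Γ(((CechOX.cechSh 𝒰).obj F).X n, V)) (h : W ≤ iOpen 𝒰 σ V) (h' : W ≤ iOpen 𝒰 τ V) :
    rv 𝒰 F σ c h = rv 𝒰 F τ c h' := by
  subst e; rfl

lemma cons_cocycle {n : ℕ} {V : X.Opens} {i : ι} (hV : V ≤ 𝒰 i) (c : Γ(((CechOX.cechSh 𝒰).obj F).X n, V))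
    (hc : (((CechOX.cechSh 𝒰).obj F).d n (n + 1)).app V c = 0) (τ : Fin (n + 1) → ι) :
    val 𝒰 F n τ c = ∑ j : Fin (n + 1), (-1 : ℤ) ^ (j : ℕ) •
      rv 𝒰 F ((Fin.cons i τ : Fin (n + 2) → ι) ∘ j.succ.succAbove) c
        ((iOpen_cons 𝒰 hV τ).trans (iOpen_face 𝒰 _ j.succ V)) := by
  have h0 : F.presheaf.map (homOfLE (iOpen_cons 𝒰 hV τ)).op
      (val 𝒰 F (n + 1) (Fin.cons i τ) ((((CechOX.cechSh 𝒰).obj F).d n (n + 1)).app V c)) = 0 := by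
    rw [hc]
    exact (congrArg (F.presheaf.map (homOfLE (iOpen_cons 𝒰 hV τ)).op)
      (map_zero ((prj 𝒰 F (n + 1) (Fin.cons i τ)).app V).hom)).trans (map_zero _)
  rw [d_val, map_sum, Fin.sum_univ_succ] at h0
  simp only [map_zsmul, Fin.val_zero, pow_zero, one_smul, Fin.val_succ, pow_succ, mul_neg, mul_one, neg_smul,
    Finset.sum_neg_distrib, map_neg, QCohLib.map_map] at h0
  rw [add_neg_eq_zero] at h0
  refine Eq.trans ?_ h0
  refine (QCohLib.map_self F le_rfl (val 𝒰 F n τ c)).symm.trans ?_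
  exact rv_congr 𝒰 F (by funext k; simp) c le_rfl _

lemma exact_sections {n : ℕ} {V : X.Opens} {i : ι} (hV : V ≤ 𝒰 i) (c : Γ(((CechOX.cechSh 𝒰).obj F).X (n + 1), V))
    (hc : (((CechOX.cechSh 𝒰).obj F).d (n + 1) (n + 1 + 1)).app V c = 0) :
    ∃ b, (((CechOX.cechSh 𝒰).obj F).d n (n + 1)).app V b = c := by
  obtain ⟨b, hb⟩ := exists_val 𝒰 F (V := V) fun σ : Fin (n + 1) → ι => rv 𝒰 F (Fin.cons i σ) c (iOpen_cons 𝒰 hV σ)
  refine ⟨b, val_ext 𝒰 F fun τ => ?_⟩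
  rw [d_val, cons_cocycle 𝒰 F hV c hc τ]
  refine Finset.sum_congr rfl fun j _ => ?_
  rw [hb, QCohLib.map_map]
  refine congrArg (_ • ·) (rv_congr 𝒰 F ?_ c _ _)
  funext k
  induction k using Fin.cases <;> simp

lemma le_iOpen_const {V : X.Opens} {i : ι} (hV : V ≤ 𝒰 i) : V ≤ iOpen 𝒰 (fun _ : Fin 1 => i) V := by
  rw [iOpen_eq]
  exact le_inf (le_iInf fun _ => hV) le_rfl

lemma iOpen_le {n : ℕ} (σ : Fin n → ι) (V : X.Opens) : iOpen 𝒰 σ V ≤ V := by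
  rw [iOpen_eq]
  exact inf_le_right

lemma aug_val {V : X.Opens} (σ : Fin 1 → ι) (s : Γ(F, V)) :
    val 𝒰 F 0 σ ((CechOX.cechShAug 𝒰 F).app V s) = F.presheaf.map (homOfLE (iOpen_le 𝒰 σ V)).op s := by
  change ((CechOX.cechShAug 𝒰 F) ≫ prj 𝒰 F 0 σ).app V s = _
  erw [Pi.lift_π]
  rfl

lemma exact_sections_zero {V : X.Opens} {i : ι} (hV : V ≤ 𝒰 i) (c : Γ(((CechOX.cechSh 𝒰).obj F).X 0, V))
    (hc : (((CechOX.cechSh 𝒰).obj F).d 0 1).app V c = 0) : ∃ s, (CechOX.cechShAug 𝒰 F).app V s = c := by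
  refine ⟨rv 𝒰 F (fun _ : Fin 1 => i) c (le_iOpen_const 𝒰 hV), val_ext 𝒰 F fun τ => ?_⟩
  rw [aug_val, cons_cocycle 𝒰 F hV c hc τ, Fin.sum_univ_one, Fin.val_zero, pow_zero, one_smul,
    QCohLib.map_map]
  refine rv_congr 𝒰 F ?_ c _ _
  funext k
  fin_cases k
  simp

lemma aug_d : CechOX.cechShAug 𝒰 F ≫ ((CechOX.cechSh 𝒰).obj F).d 0 1 = 0 := by
  refine Scheme.Modules.hom_ext _ _ fun V => AddCommGrpCat.ext fun s => val_ext 𝒰 F fun σ => ?_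
  change val 𝒰 F 1 σ ((((CechOX.cechSh 𝒰).obj F).d 0 1).app V ((CechOX.cechShAug 𝒰 F).app V s)) =
    val 𝒰 F 1 σ 0
  rw [show val 𝒰 F 1 σ (0 : Γ(((CechOX.cechSh 𝒰).obj F).X 1, V)) = 0 from map_zero ((prj 𝒰 F 1 σ).app V).hom,
    d_val, Fin.sum_univ_two, aug_val, aug_val, QCohLib.map_map, QCohLib.map_map]
  simp

variable (h𝒰 : ⨆ i, 𝒰 i = ⊤)

include h𝒰 in
lemma exists_mem (x : X) : ∃ i, x ∈ 𝒰 i := by
  have : x ∈ ⨆ i, 𝒰 i := by rw [h𝒰]; trivial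
  exact Opens.mem_iSup.1 this

include h𝒰 in
lemma mono_aug : Mono (CechOX.cechShAug 𝒰 F) := by
  rw [QCohLib.mono_iff_app_injective]
  intro V s t hst
  refine TopCat.Sheaf.eq_of_locally_eq' ((QCohLib.toSh X).obj F) (fun i => V ⊓ 𝒰 i) V (fun i => homOfLE inf_le_left)
    (fun x hx => Opens.mem_iSup.2 ((exists_mem 𝒰 h𝒰 x).imp fun i hi => ⟨hx, hi⟩)) s t fun i => ?_
  have h := congrArg (fun c => val 𝒰 F 0 (fun _ : Fin 1 => i) c) hst
  simp only [aug_val] at h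
  have hle : V ⊓ 𝒰 i ≤ iOpen 𝒰 (fun _ : Fin 1 => i) V := by
    rw [iOpen_eq]
    exact le_inf (le_iInf fun _ => inf_le_right) inf_le_left
  have h' := congrArg (F.presheaf.map (homOfLE hle).op) h
  rw [QCohLib.map_map, QCohLib.map_map] at h'
  exact h'

include h𝒰 in
lemma exact_of_secs (S : ShortComplex X.Modules)
    (h : ∀ (V : X.Opens) (i : ι), V ≤ 𝒰 i → ∀ c : Γ(S.X₂, V), S.g.app V c = 0 → ∃ b, S.f.app V b = c) :
    S.Exact := by
  haveI : PreservesFiniteLimits (QCohLib.toSh X) :=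
    inferInstanceAs (PreservesFiniteLimits (SheafOfModules.toSheaf.{u} X.ringCatSheaf))
  rw [← ShortComplex.exact_map_iff_of_faithful S (QCohLib.toSh X)]
  refine TwoTop.exact_of_local (C := X.Opens) _ fun U x hx => ?_
  refine ⟨{ arrows := fun V _ => ∃ i, V ≤ 𝒰 i, downward_closed := fun ⟨i, hi⟩ g => ⟨i, (leOfHom g).trans hi⟩ },
    fun y hy => ?_, fun {V} g hg => ?_⟩
  · obtain ⟨i, hi⟩ := exists_mem 𝒰 h𝒰 y
    exact ⟨U ⊓ 𝒰 i, homOfLE inf_le_left, ⟨i, inf_le_right⟩, hy, hi⟩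
  · obtain ⟨i, hi⟩ := hg
    refine h V i hi _ ?_
    refine (QCohLib.app_map S.g (leOfHom g) x).trans ?_
    exact (congrArg (S.X₃.presheaf.map (homOfLE (leOfHom g)).op) hx).trans (map_zero _)

include h𝒰 in
theorem resolution :
    Mono (CechOX.cechShAug 𝒰 F) ∧
    CechOX.cechShAug 𝒰 F ≫ ((CechOX.cechSh 𝒰).obj F).d 0 1 = 0 ∧
    (∀ (G : X.Modules) (g : G ⟶ ((CechOX.cechSh 𝒰).obj F).X 0), g ≫ ((CechOX.cechSh 𝒰).obj F).d 0 1 = 0 →
      ∃! g' : G ⟶ F, g' ≫ CechOX.cechShAug 𝒰 F = g) ∧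
    ∀ p : ℕ, IsZero (((CechOX.cechSh 𝒰).obj F).homology (p + 1)) := by
  haveI := mono_aug 𝒰 F h𝒰
  refine ⟨inferInstance, aug_d 𝒰 F, fun G g hg => ?_, fun p => ?_⟩
  · have hex : (ShortComplex.mk _ _ (aug_d 𝒰 F)).Exact :=
      exact_of_secs 𝒰 h𝒰 _ fun V i hV c hc => exact_sections_zero 𝒰 F hV c hc
    haveI : Mono (ShortComplex.mk _ _ (aug_d 𝒰 F)).f := ‹_›
    exact ⟨hex.lift g hg, hex.lift_f g hg, fun g' hg' => (cancel_mono (CechOX.cechShAug 𝒰 F)).1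
      (hg'.trans (hex.lift_f g hg).symm)⟩
  · refine HomologicalComplex.ExactAt.isZero_homology ?_
    rw [HomologicalComplex.exactAt_iff' _ p (p + 1) (p + 1 + 1) (by simp) (by simp)]
    exact exact_of_secs 𝒰 h𝒰 _ fun V i hV c hc => exact_sections 𝒰 F hV c hc

end Groth.Agent.CechShRes
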